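import Groth.Agent.NishiMatLib.Stab
import Groth.Agent.DualExistLib.Dual
import Groth.Agent.AVAmpleLib.IsogInv
import Groth.Agent.AVVanishLib.AlgZero
import Groth.Agent.AVAmpleLib.Exist

/-!
The equivariant morphism to an abelian variety acting faithfully on a smooth variety.
-/

set_option autoImplicit false
set_option maxHeartbeats 1000000
set_option maxRecDepth 8000
set_option backward.isDefEq.respectTransparency false
set_option linter.style.haveILetI false
set_option linter.unusedSectionVars false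

noncomputable section

universe u

open CategoryTheory CategoryTheory.Limits MonoidalCategory CartesianMonoidalCategory AlgebraicGeometry
open scoped MonObj
open Groth.Agent CubeConsLib AVVanishLib AVAmpleLib AVDualLib DualExistLib

attribute [-instance] CategoryTheory.Hom.commGroup

namespace NishiMat

variable {k : Type u} [Field k] [IsAlgClosed k]

local notation "pt₁" => 𝟙_ (Over (Spec (CommRingCat.of k)))

/-- A family over a connected base which is trivial over one rational point is additive. -/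
theorem addFam_of_slice {A T : Over (Spec (CommRingCat.of k))} [GrpObj A] [IsProper A.hom]
    [GeometricallyIntegral A.hom] [ConnectedSpace T.left] (t₀ : pt₁ ⟶ T)
    {F : (PicF.XT A.hom T).Modules} (hF : PicF.IsInvertible F)
    (h : pullA (lift (𝟙 A) (toUnit A ≫ t₀)).left (clA hF : PicA (A ⊗ T).left) = 0) :
    AddFam (clA hF : PicA (A ⊗ T).left) := by
  haveI : LocallyOfFinitePresentation A.hom := LocallyOfFinitePresentation.iff_locallyOfFiniteType.2 inferInstance
  haveI : Flat A.hom := inferInstance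
  have ht₀ : t₀.left ≫ T.hom = 𝟙 _ := Over.w t₀
  let T' : Over (Spec (CommRingCat.of k)) := Over.mk T.hom
  have e₀ : pullA (slice A T.hom t₀.left ht₀) (clA hF : PicA (PicF.XT A.hom T')) = 0 := by
    have e : slice A T.hom t₀.left ht₀ = (lift (𝟙 A) (toUnit A ≫ t₀)).left := by
      apply Limits.pullback.hom_ext
      · refine (slice_fst A T.hom t₀.left ht₀).trans ?_
        exact (congrArg Over.Hom.left (lift_fst (𝟙 A) (toUnit A ≫ t₀))).symm
      · refine (slice_snd A T.hom t₀.left ht₀).trans ?_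
        refine Eq.trans ?_ (congrArg Over.Hom.left (lift_snd (𝟙 A) (toUnit A ≫ t₀))).symm
        rw [Over.comp_left, Over.toUnit_left]
    rw [e]
    exact h
  have h0 : pullA (slice (A ⊗ A) T.hom t₀.left ht₀) (defect A T' hF) = 0 := by
    have hb : ∀ f : A ⊗ A ⟶ A, pullA (slice (A ⊗ A) T.hom t₀.left ht₀) (pullA (AbDual.bcMap f T') (clA hF)) = 0 :=
      fun f => by rw [pullA_comp, slice_bcMap, ← pullA_comp, e₀, map_zero]
    simp only [defect, map_add, map_sub, hb, sub_zero, add_zero]
  refine addFam_of_defect hF ?_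
  show defect A T' hF = 0
  haveI : ConnectedSpace T'.left := ‹ConnectedSpace T.left›
  refine defect_eq_zero_of_connected A T' hF (t₀.left (IsLocalRing.closedPoint k)) ?_
  let π := PicF.XTproj (A ⊗ A).hom T'
  let w := t₀.left (IsLocalRing.closedPoint k)
  let iw := π.fiberι w
  have hw : iw ≫ π = π.fiberToSpecResidueField w ≫ (T.left.fromSpecResidueField w ≫ T.hom) ≫ t₀.left :=
    (π.fiber_fac w).trans
      (congrArg (π.fiberToSpecResidueField w ≫ ·) (fromSpecResidueField_closedPoint T.hom t₀.left ht₀))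
  have hq : iw ≫ π ≫ T.hom = π.fiberToSpecResidueField w ≫ T.left.fromSpecResidueField w ≫ T.hom :=
    (Category.assoc _ _ _).symm.trans ((congrArg (· ≫ T.hom) (π.fiber_fac w)).trans (Category.assoc _ _ _))
  have hl : iw = (iw ≫ Limits.pullback.fst (A ⊗ A).hom T'.hom) ≫ slice (A ⊗ A) T.hom t₀.left ht₀ := by
    apply Limits.pullback.hom_ext
    · exact ((Category.assoc _ _ _).trans ((congrArg (_ ≫ ·) (slice_fst (A ⊗ A) T.hom t₀.left ht₀)).trans
        (Category.comp_id _))).symm
    · refine Eq.trans ?_ ((Category.assoc _ _ _).trans (congrArg (_ ≫ ·) (slice_snd (A ⊗ A) T.hom t₀.left ht₀))).symm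
      refine Eq.trans ?_ (Category.assoc _ _ _).symm
      refine Eq.trans ?_ (congrArg (iw ≫ ·) ((congrArg (· ≫ t₀.left) (Limits.pullback.condition
        (f := (A ⊗ A).hom) (g := T'.hom))).symm.trans (Category.assoc _ _ _)))
      show iw ≫ π = iw ≫ (π ≫ T.hom) ≫ t₀.left
      rw [← Category.assoc iw, hq, hw]
      simp only [Category.assoc]
  show pullA iw _ = 0
  rw [hl, ← pullA_comp, h0, map_zero]

/-- A point with values in the ground field pulls every class back to zero. -/
theorem P_point {V X : Over (Spec (CommRingCat.of k))} {L : X.left.Modules} (hL : PicF.IsInvertible L)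
    (x : pt₁ ⟶ X) : pullA (toUnit V ≫ x).left (clA hL) = (0 : PicA V.left) := by
  haveI : Subsingleton (pt₁).left := inferInstanceAs (Subsingleton (PrimeSpectrum k))
  haveI : Nonempty (pt₁).left := inferInstanceAs (Nonempty (PrimeSpectrum k))
  rw [Over.comp_left]
  exact pullA_eq_zero_of_point _ _ hL

/-- **Nishi–Matsumura**: a faithful action of an abelian variety on a smooth variety admits an equivariant
morphism to the abelian variety, up to a positive multiple. -/
theorem exists_equivariant (A X : Over (Spec (CommRingCat.of k))) [GrpObj A] [IsProper A.hom]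
    [GeometricallyIntegral A.hom] [LocallyOfFiniteType X.hom] [QuasiCompact X.hom] [IsSeparated X.hom]
    [IsIntegral X.left] [Smooth X.hom] (a : AlgGrp.Action A X)
    (hfaith : ∀ g : pt₁ ⟶ A, lift (toUnit X ≫ g) (𝟙 X) ≫ a.act = 𝟙 X → g = η[A]) :
    ∃ (φ : X ⟶ A) (n : ℕ), 0 < n ∧
      ∀ (T : Over (Spec (CommRingCat.of k))) (g : T ⟶ A) (x : T ⟶ X), lift g x ≫ a.act ≫ φ = (x ≫ φ) * g ^ n := by
  haveI : IsCommMonObj A := CubeConsLib.isCommMonObj_field
  haveI : IsLocallyNoetherian X.left := LocallyOfFiniteType.isLocallyNoetherian X.hom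
  haveI : CompactSpace X.left := QuasiCompact.compactSpace_of_compactSpace X.hom
  haveI : IsNoetherian X.left := ⟨⟩
  haveI : X.left.IsSeparated := ⟨by rw [← Limits.terminal.comp_from X.hom]; infer_instance⟩
  haveI : JacobsonSpace X.left := LocallyOfFiniteType.jacobsonSpace X.hom
  letI : X.left.Over (Spec (CommRingCat.of k)) := ⟨X.hom⟩
  haveI : Smooth (X.left ↘ Spec (CommRingCat.of k)) := inferInstanceAs (Smooth X.hom)
  obtain ⟨U, hU, hxU, -⟩ := exists_isAffineOpen_mem_and_subset (X := X.left)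
    (x := genericPoint X.left) (U := ⊤) trivial
  haveI := isAffineHom_ι (fun V W hV hW => hV.inf hW) hU
  obtain ⟨I, hI, hsupp⟩ := exists_effCartier_compl U (U.2.dense ⟨_, hxU⟩) fun x _ => by
    haveI := Groth.Agent.S1535.result k X.left x
    exact Groth.Agent.S2821.result (X.left.presheaf.stalk x)
  have hi := IntMultLib.isInvertible_idealMod I hI
  obtain ⟨φI⟩ := MiscFlat6.nonempty_dualIso hi
  have hL := MiscFlat6.dual_isInvertible hi
  obtain ⟨σ, hσ⟩ := AVAmpleLib.exists_section hL
    ⟨KFlatLib.tensSwap (ClSub.idealMod I) (MiscFlat6.dual (ClSub.idealMod I)) ≪≫ φI⟩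
  -- the orbit of a point of the affine open
  obtain ⟨c, hcU, hc⟩ := nonempty_inter_closedPoints (Z := (U : Set X.left)) ⟨_, hxU⟩ U.2.isLocallyClosed
  let x₀ : pt₁ ⟶ X := Over.homMk (pointOfClosedPoint X.hom c hc) (pointOfClosedPoint_comp _ _ _)
  let o := a.orbitMap x₀
  haveI := isFinite_orbitMap a hfaith x₀
  let M := (Scheme.Modules.pullback o.left).obj (MiscFlat6.dual (ClSub.idealMod I))
  have hM : PicF.IsInvertible M := AmpleDevLib.isInvertible_pb o.left hL
  have hMa : CohB1.IsAmple M := by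
    refine isAmple_of_affine_locus' (A := A) hM (U := o.left ⁻¹ᵁ U) (hU.preimage o.left) ?_
      (KFlatLib.puSec o.left σ) ((AmpleDevLib.genSet_puSec o.left hL σ).trans (congrArg (o.left ⁻¹ᵁ ·) ?_))
    · refine ⟨(1 : pt₁ ⟶ A).left (IsLocalRing.closedPoint k), ?_⟩
      have h1 : (1 : pt₁ ⟶ A) ≫ o = x₀ := by
        show (1 : pt₁ ⟶ A) ≫ a.orbitMap x₀ = _
        rw [point_orbit, one_smul_pt]
      show o.left.base ((1 : pt₁ ⟶ A).left.base (IsLocalRing.closedPoint k)) ∈ U
      rw [show o.left.base ((1 : pt₁ ⟶ A).left.base (IsLocalRing.closedPoint k)) =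
        x₀.left.base (IsLocalRing.closedPoint k) from congr($(h1).left.base (IsLocalRing.closedPoint k))]
      show (pointOfClosedPoint X.hom c hc).base (IsLocalRing.closedPoint k) ∈ U
      simpa using hcU
    · exact TopologicalSpace.Opens.ext (by rw [hσ, hsupp, compl_compl])
  obtain ⟨Y, _, _, _, π, _, _, _, Q, hQ, hqp⟩ := exists_quotPair hM fun K iK hK => by
    haveI := hK.closed
    exact AVAmpleLib.isFinite_of_mumfordTriv hM ((MiscFlat6.isRelAmple_iff_isAmple A.hom M).2 hMa) iK
      ((hK.univ K iK).2 ⟨𝟙 _, Category.id_comp _⟩)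
  -- the family
  let cL : PicA X.left := clA hL
  let c₀ : PicA (A ⊗ X).left :=
    pullA a.act.left cL - pullA (fst A X ≫ o).left cL - pullA (snd A X).left cL
  obtain ⟨F, hF, hFc⟩ : ∃ (F : (A ⊗ X).left.Modules) (hF : PicF.IsInvertible F), clA hF = c₀ := by
    obtain ⟨D, hD, eD⟩ := AVDualLib.exists_sub (AmpleDevLib.isInvertible_pb a.act.left hL)
      (AmpleDevLib.isInvertible_pb (fst A X ≫ o).left hL)
    obtain ⟨D', hD', eD'⟩ := AVDualLib.exists_sub hD (AmpleDevLib.isInvertible_pb (snd A X).left hL)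
    exact ⟨D', hD', by rw [eD', eD, ← pullA_clA _ hL, ← pullA_clA _ hL, ← pullA_clA _ hL]⟩
  have hev : ∀ {V : Over (Spec (CommRingCat.of k))} (b : V ⟶ A) (x : V ⟶ X),
      ev c₀ b x = pullA (lift b x ≫ a.act).left cL - pullA (lift b (toUnit V ≫ x₀) ≫ a.act).left cL -
        pullA x.left cL := by
    intro V b x
    show pullA (lift b x).left (pullA a.act.left cL - pullA (fst A X ≫ o).left cL - pullA (snd A X).left cL) = _
    simp only [map_sub, pullA_comp, ← Over.comp_left]
    rw [lift_snd, ← Category.assoc (lift b x) (fst A X), lift_fst]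
    rw [show b ≫ o = lift b (toUnit V ≫ x₀) ≫ a.act from OrbitLib.comp_orbitMap a x₀ b]
  have hone : ∀ {V : Over (Spec (CommRingCat.of k))} (x : V ⟶ X), ev c₀ (1 : V ⟶ A) x = 0 := by
    intro V x
    rw [hev, one_smul_pt, one_smul_pt, P_point hL x₀, sub_zero, sub_self]
  haveI : ConnectedSpace X.left := inferInstance
  have hadd : AddFam c₀ := by
    rw [← hFc]
    refine addFam_of_slice x₀ (F := F) hF ?_
    rw [show (clA hF : PicA (A ⊗ X).left) = c₀ from hFc]
    show ev c₀ (𝟙 A) (toUnit A ≫ x₀) = 0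
    rw [hev, P_point hL x₀, sub_zero, sub_self]
  obtain ⟨y, hy⟩ := exists_good hqp hF (hFc ▸ hadd)
  rw [hFc] at hy
  -- equivariance
  have key : ∀ {T : Over (Spec (CommRingCat.of k))} (g : T ⟶ A) (x : T ⟶ X),
      lift g x ≫ a.act ≫ y = (x ≫ y) * (g ≫ π) := by
    intro T g x
    have h1 := hy.pull (lift g x ≫ a.act)
    have h2 := (hy.pull x).add hqp (good_fam (hQ := hQ) (g ≫ π))
    have e : pullA (A ◁ (lift g x ≫ a.act)).left c₀ = pullA (A ◁ x).left c₀ + fam hQ (g ≫ π) := by
      rw [fam_comp hqp]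
      let b : A ⊗ T ⟶ A := fst A T
      let g' : A ⊗ T ⟶ A := snd A T ≫ g
      let x' : A ⊗ T ⟶ X := snd A T ≫ x
      have hw : ∀ z : T ⟶ X, pullA (A ◁ z).left c₀ = ev c₀ b (snd A T ≫ z) := fun z => by
        show pullA (A ◁ z).left c₀ = pullA (lift (fst A T) (snd A T ≫ z)).left c₀
        congr 3
      rw [hw, hw]
      have hgx : snd A T ≫ lift g x ≫ a.act = lift g' x' ≫ a.act := by
        rw [← Category.assoc, comp_lift]
      rw [hgx]
      show ev c₀ b (lift g' x' ≫ a.act) = ev c₀ b x' + lam hM b g'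
      have hmul : ∀ (u : A ⊗ T ⟶ A) (v : A ⊗ T ⟶ X),
          lift b (lift u v ≫ a.act) ≫ a.act = lift (b * u) v ≫ a.act := fun u v => by
        have e1 : lift (lift b u) v ≫ (μ[A] ▷ X) = lift (b * u) v := by rw [lift_whiskerRight, Hom.mul_def]
        rw [← e1, Category.assoc, a.mul_act, ← Category.assoc, lift_lift_associator_hom, ← Category.assoc,
          lift_whiskerLeft]
      have hsum := hadd (A ⊗ T) b g' x'
      rw [hone, sub_zero, hev (b * g') x', hev b x', hev g' x'] at hsum
      have hP : ∀ u : A ⊗ T ⟶ A, P hM u = pullA (lift u (toUnit _ ≫ x₀) ≫ a.act).left cL := fun u => by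
        show pullA u.left (clA hM) = _
        rw [← pullA_clA o.left hL, pullA_comp, ← Over.comp_left,
          show u ≫ o = lift u (toUnit _ ≫ x₀) ≫ a.act from OrbitLib.comp_orbitMap a x₀ u]
      rw [lam, hP, hP, hP, hev b (lift g' x' ≫ a.act), hev b x', hmul g' x', sub_eq_iff_eq_add.1 (sub_eq_iff_eq_add.1 hsum)]
      abel
    rw [← Category.assoc]
    exact (e ▸ h1).unique hqp h2
  haveI : IsCommMonObj Y := CubeConsLib.isCommMonObj_field
  obtain ⟨n, ψ, hn, hψ, hπψ, -⟩ := AVAmpleLib.exists_quasi_inverse π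
  haveI := hψ
  refine ⟨y ≫ ψ, n, hn, fun T g x => ?_⟩
  rw [← Category.assoc a.act, ← Category.assoc (lift g x), key, MonObj.mul_comp, Category.assoc,
    Category.assoc, hπψ, MonObj.comp_pow, Category.comp_id]

end NishiMat

end
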