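import Groth.Agent.AVAmpleLib.ReducedSub
import Groth.Agent.AVAmpleLib.Dense
import Groth.Agent.AVAmpleLib.HomDiv
import Groth.Agent.AlbLib.AVClass
import Groth.Agent.AntiAffLib.RigidGrp
import Groth.Agent.AntiAffLib.KerSub
import Groth.Agent.OrbitLib.Basic
import Mathlib.AlgebraicGeometry.ZariskisMainTheorem

/-!
The orbit maps of a faithful action of an abelian variety are finite.
-/

set_option autoImplicit false
set_option linter.style.haveILetI false
set_option backward.isDefEq.respectTransparency false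
set_option maxHeartbeats 1000000

noncomputable section

universe u

open CategoryTheory CategoryTheory.Limits MonoidalCategory CartesianMonoidalCategory AlgebraicGeometry TopologicalSpace
open scoped MonObj
open Groth.Agent AVAmpleLib

attribute [-instance] CategoryTheory.Hom.commGroup

namespace NishiMat

variable {k : Type u} [Field k] [IsAlgClosed k]

local notation "pt₁" => 𝟙_ (Over (Spec (CommRingCat.of k)))

theorem isClosed_point {B : Over (Spec (CommRingCat.of k))} [IsSeparated B.hom] (b : pt₁ ⟶ B) :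
    IsClosed ({b.left.base (IsLocalRing.closedPoint k)} : Set B.left) := by
  haveI : IsClosedImmersion b.left := isClosedImmersion_of_comp_eq_id B.hom _ (Over.w _)
  have h := b.left.isClosedEmbedding.isClosed_range
  haveI : Subsingleton (pt₁).left := inferInstanceAs (Subsingleton (PrimeSpectrum k))
  have e : Set.range b.left.base = {b.left.base (IsLocalRing.closedPoint k)} :=
    Set.eq_singleton_iff_unique_mem.2 ⟨⟨_, rfl⟩, by rintro _ ⟨y, rfl⟩; exact congrArg _ (Subsingleton.elim _ _)⟩
  rwa [e] at h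

theorem finite_of_subgroup_singleton_component {B : Over (Spec (CommRingCat.of k))} [GrpObj B] [IsProper B.hom]
    [IsReduced B.left] (h : (GrpField.Z0 B).Subsingleton) : Finite B.left := by
  haveI : JacobsonSpace B.left := LocallyOfFiniteType.jacobsonSpace B.hom
  haveI : IsLocallyNoetherian B.left := LocallyOfFiniteType.isLocallyNoetherian B.hom
  haveI : CompactSpace B.left := QuasiCompact.compactSpace_of_compactSpace B.hom
  haveI : IsNoetherian B.left := ⟨⟩
  have hcc : ∀ b : pt₁ ⟶ B, connectedComponent (AVAmpleLib.pt b) = {AVAmpleLib.pt b} := by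
    intro b
    refine Set.eq_singleton_iff_unique_mem.2 ⟨mem_connectedComponent, fun x hx => ?_⟩
    by_contra hne
    obtain ⟨y, ⟨hy1, hy2⟩, hyc⟩ := nonempty_inter_closedPoints (Z := connectedComponent (AVAmpleLib.pt b) \ {AVAmpleLib.pt b})
      ⟨x, hx, hne⟩ (isClosed_connectedComponent.isLocallyClosed.inter
        (isClosed_point b : IsClosed ({AVAmpleLib.pt b} : Set B.left)).isOpen_compl.isLocallyClosed)
    obtain ⟨c, rfl⟩ := AVAmpleLib.exists_pt_eq y hyc
    have h1 := AVAmpleLib.connectedComponent_pt b c (connectedComponent_eq hy1)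
    have h2 := AVAmpleLib.connectedComponent_pt b b rfl
    rw [_root_.inv_mul_cancel] at h2
    have h3 : AVAmpleLib.pt (b⁻¹ * c) = AVAmpleLib.pt (1 : pt₁ ⟶ B) := h h1 h2
    have h4 : b⁻¹ * c = 1 := Over.OverMorphism.ext
      (ext_of_apply_closedPoint_eq B.hom (Over.w _) (Over.w _) h3)
    exact hy2 (congrArg AVAmpleLib.pt (inv_mul_eq_one.1 h4).symm)
  haveI : Nonempty B.left := ⟨AVAmpleLib.pt (1 : pt₁ ⟶ B)⟩
  have hfin : (connectedComponent '' (Set.univ : Set B.left)).Finite := by
    refine (NoetherianSpace.finite_irreducibleComponents (α := B.left)).image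
      (fun Z => connectedComponent (Classical.epsilon (· ∈ Z))) |>.subset ?_
    rintro _ ⟨x, -, rfl⟩
    refine ⟨irreducibleComponent x, irreducibleComponent_mem_irreducibleComponents x, ?_⟩
    have he : Classical.epsilon (· ∈ irreducibleComponent x) ∈ irreducibleComponent x :=
      Classical.epsilon_spec (p := (· ∈ irreducibleComponent x)) ⟨x, mem_irreducibleComponent⟩
    exact (connectedComponent_eq
      ((isIrreducible_irreducibleComponent.isConnected.subset_connectedComponent mem_irreducibleComponent) he)).symm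
  have hall : ∀ x : B.left, connectedComponent x = {x} := by
    intro x
    obtain ⟨y, hy, hyc⟩ := nonempty_inter_closedPoints (Z := closure {x}) ⟨x, subset_closure rfl⟩
      isClosed_closure.isLocallyClosed
    obtain ⟨c, rfl⟩ := AVAmpleLib.exists_pt_eq y hyc
    have h1 : AVAmpleLib.pt c ∈ connectedComponent x :=
      (isConnected_singleton.closure.subset_connectedComponent (subset_closure rfl)) hy
    have h2 : connectedComponent x = {AVAmpleLib.pt c} := by rw [connectedComponent_eq h1, hcc]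
    rw [h2, Set.singleton_eq_singleton_iff]
    exact ((h2 ▸ mem_connectedComponent : x ∈ ({AVAmpleLib.pt c} : Set B.left))).symm
  haveI : Finite (connectedComponent '' (Set.univ : Set B.left)) := hfin.to_subtype
  exact Finite.of_injective (fun x => (⟨connectedComponent x, x, trivial, rfl⟩ :
    connectedComponent '' (Set.univ : Set B.left))) fun x y e => by
      have e' : connectedComponent x = connectedComponent y := congrArg Subtype.val e
      rw [show connectedComponent x = _ from hall x, show connectedComponent y = _ from hall y,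
        Set.singleton_eq_singleton_iff] at e'
      exact e'

variable {A X : Over (Spec (CommRingCat.of k))} [GrpObj A] [IsProper A.hom] [GeometricallyIntegral A.hom]
  [LocallyOfFiniteType X.hom] [IsSeparated X.hom] [IsIntegral X.left] (a : AlgGrp.Action A X)

theorem point_orbit (x₀ : pt₁ ⟶ X) (b : pt₁ ⟶ A) : b ≫ a.orbitMap x₀ = lift b x₀ ≫ a.act := by
  rw [OrbitLib.comp_orbitMap, show toUnit pt₁ = 𝟙 _ from toUnit_unique _ _, Category.id_comp]

theorem point_mul (x : pt₁ ⟶ X) (b c : pt₁ ⟶ A) :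
    lift (b * c) x ≫ a.act = lift b (lift c x ≫ a.act) ≫ a.act := by
  have h1 : lift (lift b c) x ≫ (μ[A] ▷ X) = lift (b * c) x := by rw [lift_whiskerRight, Hom.mul_def]
  rw [← h1, Category.assoc, a.mul_act, ← Category.assoc, lift_lift_associator_hom, ← Category.assoc,
    lift_whiskerLeft]

theorem one_smul_pt {T : Over (Spec (CommRingCat.of k))} (x : T ⟶ X) : lift (1 : T ⟶ A) x ≫ a.act = x := by
  have h : lift (toUnit T) x ≫ (η[A] ▷ X) = lift (1 : T ⟶ A) x := by rw [lift_whiskerRight, Hom.one_def]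
  rw [← h, Category.assoc, a.one_act, leftUnitor_hom, lift_snd]

/-- A connected subgroup fixing a point acts trivially. -/
theorem eq_one_of_fix {B : Over (Spec (CommRingCat.of k))} [GrpObj B] [IsProper B.hom] [GeometricallyIntegral B.hom]
    (j : B ⟶ A) [IsMonHom j] (x₀ : pt₁ ⟶ X) (hfix : j ≫ a.orbitMap x₀ = toUnit B ≫ x₀) :
    (j ▷ X) ≫ a.act = snd B X := by
  haveI : IsIntegral B.left := GeometricallyIntegral.isIntegral_of_subsingleton B.hom
  haveI : ConnectedSpace B.left := AlbLib.connectedSpace_gi B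
  haveI : AntiAffLib.IsΓIso (toUnit B) := AntiAffLib.antiAff_of_universallyClosed B η[B]
  haveI : IsLocallyNoetherian X.left := LocallyOfFiniteType.isLocallyNoetherian X.hom
  have h := AntiAffLib.rigidity_rat η[B] x₀ x₀ ((j ▷ X) ≫ a.act) (by
    rw [OrbitLib.comp_orbitMap] at hfix
    have e : (B ◁ x₀) ≫ (j ▷ X) = fst B pt₁ ≫ lift j (toUnit B ≫ x₀) := by
      apply CartesianMonoidalCategory.hom_ext
      · simp
      · rw [Category.assoc, whiskerRight_snd, whiskerLeft_snd, Category.assoc, lift_snd, ← Category.assoc,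
          toUnit_unique (fst B pt₁ ≫ toUnit B) (snd B pt₁)]
    rw [← Category.assoc, e, Category.assoc, hfix, ← Category.assoc, toUnit_unique (fst B pt₁ ≫ toUnit B) (toUnit _)])
  rw [h]
  have e : lift (toUnit X ≫ η[B]) (𝟙 X) ≫ (j ▷ X) = lift (1 : X ⟶ A) (𝟙 X) := by
    rw [lift_whiskerRight, Category.assoc, IsMonHom.one_hom, Hom.one_def]
  rw [← Category.assoc (lift (toUnit X ≫ η[B]) (𝟙 X)), e, one_smul_pt, Category.comp_id]

/-- The stabiliser of a rational point is finite. -/
theorem finite_stab (hfaith : ∀ g : pt₁ ⟶ A, lift (toUnit X ≫ g) (𝟙 X) ≫ a.act = 𝟙 X → g = η[A])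
    (x₀ : pt₁ ⟶ X) : {b : pt₁ ⟶ A | b ≫ a.orbitMap x₀ = x₀}.Finite := by
  let H : Set (pt₁ ⟶ A) := {b | b ≫ a.orbitMap x₀ = x₀}
  have h1 : (1 : pt₁ ⟶ A) ∈ H := by
    show (1 : pt₁ ⟶ A) ≫ _ = _
    rw [point_orbit, one_smul_pt]
  have hmul : ∀ b ∈ H, ∀ c ∈ H, b * c ∈ H := fun b hb c hc => by
    have hb' : lift b x₀ ≫ a.act = x₀ := (point_orbit a x₀ b) ▸ hb
    have hc' : lift c x₀ ≫ a.act = x₀ := (point_orbit a x₀ c) ▸ hc
    show (b * c) ≫ _ = _
    rw [point_orbit, point_mul, hc', hb']
  have hinv : ∀ b ∈ H, b⁻¹ ∈ H := fun b hb => by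
    have hb' : lift b x₀ ≫ a.act = x₀ := (point_orbit a x₀ b) ▸ hb
    show b⁻¹ ≫ _ = _
    rw [point_orbit]
    conv_lhs => rw [← hb', ← point_mul, _root_.inv_mul_cancel, one_smul_pt]
  obtain ⟨S, gS, i, him, hic, hred, hlft, hr⟩ := AVAmpleLib.exists_reduced_subgroup (A := A) H h1 hmul hinv
  haveI := hic
  haveI := hred
  haveI := hlft
  haveI : IsProper S.hom := by rw [← Over.w i]; infer_instance
  obtain ⟨B, gB, j, hjm, hjc, -, hBp, hBi, hBr⟩ := AVAmpleLib.exists_identity_component S
  haveI := hjm; haveI := hjc; haveI := him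
  have hfix : (j ≫ i) ≫ a.orbitMap x₀ = toUnit B ≫ x₀ := by
    haveI : IsIntegral B.left := GeometricallyIntegral.isIntegral_of_subsingleton B.hom
    refine AVAmpleLib.hom_ext_of_points _ _ fun z => ?_
    have hz : z ≫ toUnit B ≫ x₀ = x₀ := by
      rw [← Category.assoc, show z ≫ toUnit B = 𝟙 _ from toUnit_unique _ _, Category.id_comp]
    rw [hz]
    have hc : IsClosed {y : A.left | (a.orbitMap x₀).left.base y = x₀.left.base (IsLocalRing.closedPoint k)} := by
      have h0 := (isClosed_point x₀).preimage (a.orbitMap x₀).left.continuous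
      simpa only [Set.preimage, Set.mem_singleton_iff] using h0
    have hzc : AVAmpleLib.pt (z ≫ j ≫ i) ∈ closure (AVAmpleLib.pt '' H) := hr ▸ ⟨_, rfl⟩
    have := closure_minimal (t := {y : A.left | (a.orbitMap x₀).left.base y = x₀.left.base (IsLocalRing.closedPoint k)})
      (Set.image_subset_iff.2 fun b (hb : b ≫ a.orbitMap x₀ = x₀) =>
        congrArg (fun m : pt₁ ⟶ X => m.left.base (IsLocalRing.closedPoint k)) hb) hc hzc
    exact Over.OverMorphism.ext (ext_of_apply_closedPoint_eq X.hom (Over.w _) (Over.w _) this)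
  have htriv := eq_one_of_fix a (j ≫ i) x₀ hfix
  have hpt : ∀ z : pt₁ ⟶ B, z ≫ j = 1 := fun z => by
    haveI : Mono i := Over.mono_of_mono_left i
    rw [← cancel_mono i, MonObj.one_comp]
    rw [← MonObj.one_eq_one]
    refine (hfaith ((z ≫ j) ≫ i) ?_).trans rfl
    have e : lift (toUnit X ≫ (z ≫ j) ≫ i) (𝟙 X) = lift (toUnit X ≫ z) (𝟙 X) ≫ ((j ≫ i) ▷ X) := by
      rw [lift_whiskerRight]; simp only [Category.assoc]
    rw [e, Category.assoc, htriv, lift_snd]
  have hsub : (GrpField.Z0 S).Subsingleton := by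
    have key : ∀ y ∈ GrpField.Z0 S, y = AVAmpleLib.pt (1 : pt₁ ⟶ S) := by
      intro y hy
      haveI : JacobsonSpace B.left := LocallyOfFiniteType.jacobsonSpace B.hom
      obtain ⟨w, rfl⟩ := hBr.ge hy
      obtain ⟨v, hv, hvc⟩ := nonempty_inter_closedPoints (Z := closure {w}) ⟨w, subset_closure rfl⟩
        isClosed_closure.isLocallyClosed
      obtain ⟨z, rfl⟩ := AVAmpleLib.exists_pt_eq v hvc
      by_contra hne
      have hcl : IsClosed ({AVAmpleLib.pt (1 : pt₁ ⟶ S)} : Set S.left) := isClosed_point _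
      -- a closed point of the open complement
      obtain ⟨v', hv', hvc'⟩ := nonempty_inter_closedPoints (Z := (j.left.base ⁻¹' {AVAmpleLib.pt (1 : pt₁ ⟶ S)})ᶜ)
        ⟨w, hne⟩ (hcl.preimage j.left.continuous).isOpen_compl.isLocallyClosed
      obtain ⟨z', rfl⟩ := AVAmpleLib.exists_pt_eq v' hvc'
      exact hv' (congrArg AVAmpleLib.pt (hpt z'))
    intro x hx y hy
    rw [key x hx, key y hy]
  haveI := finite_of_subgroup_singleton_component hsub
  refine Set.Finite.of_finite_image (f := AVAmpleLib.pt) ((Set.finite_range i.left.base).subset ?_)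
    fun b _ c _ e => Over.OverMorphism.ext (ext_of_apply_closedPoint_eq A.hom (Over.w b) (Over.w c) e)
  rintro _ ⟨b, hb, rfl⟩
  rw [hr]
  exact subset_closure ⟨b, hb, rfl⟩

/-- The orbit maps are finite. -/
theorem isFinite_orbitMap (hfaith : ∀ g : pt₁ ⟶ A, lift (toUnit X ≫ g) (𝟙 X) ≫ a.act = 𝟙 X → g = η[A])
    (x₀ : pt₁ ⟶ X) : IsFinite (a.orbitMap x₀).left := by
  haveI : IsCommMonObj A := CubeConsLib.isCommMonObj_field
  let f := (a.orbitMap x₀).left
  haveI : IsProper f := by
    haveI : IsProper (f ≫ X.hom) := by rw [Over.w]; infer_instance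
    exact IsProper.of_comp f X.hom
  haveI : JacobsonSpace A.left := LocallyOfFiniteType.jacobsonSpace A.hom
  suffices LocallyQuasiFinite f from IsFinite.of_isProper_of_locallyQuasiFinite f
  rw [← Scheme.Hom.quasiFiniteLocus_eq_top_iff]
  by_contra hne
  obtain ⟨x, hx⟩ : ((f.quasiFiniteLocus : Set A.left)ᶜ).Nonempty := by
    rw [Set.nonempty_compl]
    exact fun h' => hne (TopologicalSpace.Opens.ext h')
  obtain ⟨y, hyn, hyc⟩ := nonempty_inter_closedPoints ⟨x, hx⟩ f.quasiFiniteLocus.2.isClosed_compl.isLocallyClosed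
  obtain ⟨b, rfl⟩ := AVAmpleLib.exists_pt_eq y hyc
  refine hyn (f.mem_quasiFiniteLocus.2 (Scheme.Hom.quasiFiniteAt_iff_isOpen_singleton_asFiber.2 ?_))
  let F : Set A.left := AVAmpleLib.pt '' ((fun s => b * s) '' {s | s ≫ a.orbitMap x₀ = x₀})
  have hF : F.Finite := ((finite_stab a hfaith x₀).image _).image _
  have hclA : ∀ c : pt₁ ⟶ A, IsClosed ({AVAmpleLib.pt c} : Set A.left) := fun c => isClosed_point c
  have hFc : IsClosed F := by
    rw [← Set.biUnion_of_singleton F]
    refine hF.isClosed_biUnion fun z hz => ?_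
    obtain ⟨q, -, rfl⟩ := hz
    exact hclA q
  have hy : IsClosed ({f (AVAmpleLib.pt b)} : Set X.left) := by
    have hcl' := f.isClosedMap _ (hclA b)
    rwa [Set.image_singleton] at hcl'
  have hsub : f ⁻¹' {f (AVAmpleLib.pt b)} ⊆ F := by
    intro z hz
    by_contra hzF
    obtain ⟨w, ⟨hw1, hw2⟩, hwc⟩ := nonempty_inter_closedPoints (Z := f ⁻¹' {f (AVAmpleLib.pt b)} \ F) ⟨z, hz, hzF⟩
      ((hy.preimage f.continuous).isLocallyClosed.inter hFc.isOpen_compl.isLocallyClosed)
    obtain ⟨q, rfl⟩ := AVAmpleLib.exists_pt_eq w hwc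
    have e : q ≫ a.orbitMap x₀ = b ≫ a.orbitMap x₀ :=
      Over.OverMorphism.ext (ext_of_apply_closedPoint_eq X.hom (Over.w _) (Over.w _) hw1)
    rw [point_orbit, point_orbit] at e
    refine hw2 ⟨q, ⟨b⁻¹ * q, ?_, _root_.mul_inv_cancel_left b q⟩, rfl⟩
    show (b⁻¹ * q) ≫ a.orbitMap x₀ = x₀
    rw [point_orbit, point_mul, e, ← point_mul, _root_.inv_mul_cancel, one_smul_pt]
  haveI : Finite (f ⁻¹' {f (AVAmpleLib.pt b)}) := (hF.subset hsub).to_subtype
  haveI : T1Space (f ⁻¹' {f (AVAmpleLib.pt b)}) := ⟨fun z => by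
    obtain ⟨q, -, hq⟩ := hsub z.2
    have hz : IsClosed ({(z : A.left)} : Set A.left) := hq ▸ hclA q
    convert hz.preimage (continuous_subtype_val (p := fun w => w ∈ f ⁻¹' {f (AVAmpleLib.pt b)})) using 1
    ext w
    simp [Subtype.ext_iff]⟩
  haveI : DiscreteTopology (f ⁻¹' {f (AVAmpleLib.pt b)}) := inferInstance
  rw [← (f.fiberHomeo _).isOpen_image]
  exact isOpen_discrete _

end NishiMat

end
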